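import Mathlib

/-!
An alternating bilinear pairing on the group of roots of unity is trivial.
-/

set_option autoImplicit false
set_option maxHeartbeats 1000000

universe u

noncomputable section

open MonoidAlgebra

namespace Groth.Agent.MuPair

theorem field_data (K : Type u) [Field K] (n : ℕ) (hn : n ≠ 0) :
    ∃ m q : ℕ, n = q * m ∧ (m : K) ≠ 0 ∧ Nat.Coprime q m ∧ ∀ x : K, x ^ n = 1 → x ^ m = 1 := by
  rcases ExpChar.exists K with ⟨p, hp⟩
  cases hp with
  | zero => exact ⟨n, 1, by simp, Nat.cast_ne_zero.2 hn, Nat.coprime_one_left _, fun x h => h⟩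
  | prime hprime =>
    obtain ⟨s, m, hdvd, rfl⟩ := Nat.exists_eq_pow_mul_and_not_dvd hn p hprime.ne_one
    haveI : ExpChar K p := ExpChar.prime hprime
    refine ⟨m, p ^ s, rfl, ?_, Nat.Coprime.pow_left _ ((Nat.Prime.coprime_iff_not_dvd hprime).2 hdvd), ?_⟩
    · rwa [ne_eq, CharP.cast_eq_zero_iff K p]
    · intro x hx
      exact (ExpChar.pow_prime_pow_mul_eq_one_iff p s m x).1 hx

variable (n : ℕ) [NeZero n]

local notation "Mn" => Multiplicative (ZMod n)

theorem mn_eq_pow (x : Mn) : x = Multiplicative.ofAdd (1 : ZMod n) ^ (Multiplicative.toAdd x).val := by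
  rw [← ofAdd_nsmul, nsmul_one, ZMod.natCast_zmod_val]
  rfl

theorem hom_ext_mn {C : Type u} [Monoid C] {φ ψ : Mn →* C}
    (h : φ (Multiplicative.ofAdd 1) = ψ (Multiplicative.ofAdd 1)) : φ = ψ :=
  MonoidHom.ext fun x => by rw [mn_eq_pow n x, map_pow, map_pow, h]

theorem exists_gen (K : Type u) [Field K] [IsAlgClosed K] :
    ∃ (m q : ℕ) (ψ₀ : Mn →* K), n = q * m ∧ Nat.Coprime q m ∧
      IsPrimitiveRoot (ψ₀ (Multiplicative.ofAdd 1)) m ∧ ∀ ψ : Mn →* K, ∃ i : ℕ, ψ = ψ₀ ^ i := by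
  obtain ⟨m, q, hnm, hm, hco, hpow⟩ := field_data K n (NeZero.ne n)
  haveI : NeZero (m : K) := ⟨hm⟩
  haveI : NeZero m := NeZero.of_neZero_natCast K
  obtain ⟨ζ, hζ⟩ := HasEnoughRootsOfUnity.exists_primitiveRoot K m
  have hn1 : ζ ^ n = 1 := by rw [hnm, mul_comm, pow_mul, hζ.pow_eq_one, one_pow]
  let ψ₀ : Mn →* K :=
    { toFun := fun x => ζ ^ (Multiplicative.toAdd x).val
      map_one' := by simp
      map_mul' := fun x y => by
        rw [← pow_add, pow_eq_pow_mod ((Multiplicative.toAdd x).val + (Multiplicative.toAdd y).val) hn1,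
          ← ZMod.val_add]
        rfl }
  have hψ₀ : ψ₀ (Multiplicative.ofAdd 1) = ζ := by
    show ζ ^ (1 : ZMod n).val = ζ
    rw [ZMod.val_one_eq_one_mod, ← pow_eq_pow_mod 1 hn1, pow_one]
  refine ⟨m, q, ψ₀, hnm, hco, by rw [hψ₀]; exact hζ, fun ψ => ?_⟩
  have h1 : ψ (Multiplicative.ofAdd 1) ^ n = 1 := by
    rw [← map_pow, ← ofAdd_nsmul, nsmul_one, ZMod.natCast_self, ofAdd_zero, map_one]
  obtain ⟨i, -, hi⟩ := hζ.eq_pow_of_pow_eq_one (hpow _ h1)
  exact ⟨i, hom_ext_mn n (by rw [← hi, MonoidHom.pow_apply, hψ₀])⟩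

variable (R : Type u) [CommRing R]

/-- A pairing on roots of unity with values in rings. -/
structure Pairing where
  V : ∀ (C : Type u) [CommRing C] [Algebra R C], (Mn →* C) → (Mn →* C) → C
  nat : ∀ {C D : Type u} [CommRing C] [Algebra R C] [CommRing D] [Algebra R D] (L : C →ₐ[R] D) (χ ψ : Mn →* C),
    L (V C χ ψ) = V D ((L : C →* D).comp χ) ((L : C →* D).comp ψ)
  mulL : ∀ {C : Type u} [CommRing C] [Algebra R C] (χ χ' ψ : Mn →* C), V C (χ * χ') ψ = V C χ ψ * V C χ' ψ
  mulR : ∀ {C : Type u} [CommRing C] [Algebra R C] (χ ψ ψ' : Mn →* C), V C χ (ψ * ψ') = V C χ ψ * V C χ ψ'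
  oneL : ∀ {C : Type u} [CommRing C] [Algebra R C] (ψ : Mn →* C), V C 1 ψ = 1
  alt : ∀ {C : Type u} [CommRing C] [Algebra R C] (χ : Mn →* C), V C χ χ = 1

/-- The coordinate ring. -/
abbrev A0 : Type u := MonoidAlgebra R Mn

/-- The universal value. -/
def cf (P : Pairing n R) (a : Mn) : A0 n R :=
  (P.V (MonoidAlgebra (A0 n R) Mn) (MonoidAlgebra.of (A0 n R) Mn)
    ((algebraMap (A0 n R) (MonoidAlgebra (A0 n R) Mn) : A0 n R →* MonoidAlgebra (A0 n R) Mn).comp
      (MonoidAlgebra.of R Mn))).coeff a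

variable {R} {n}

theorem formula (P : Pairing n R) (C : Type u) [CommRing C] [Algebra R C] (χ ψ : Mn →* C) :
    P.V C χ ψ = ∑ a, MonoidAlgebra.lift R C Mn ψ (cf n R P a) * χ a := by
  classical
  letI : Algebra (A0 n R) C := (MonoidAlgebra.lift R C Mn ψ).toRingHom.toAlgebra
  haveI : IsScalarTower R (A0 n R) C := IsScalarTower.of_algebraMap_eq fun r =>
    ((MonoidAlgebra.lift R C Mn ψ).commutes r).symm
  let B := MonoidAlgebra (A0 n R) Mn
  let L : B →ₐ[A0 n R] C := MonoidAlgebra.lift (A0 n R) C Mn χ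
  have h := P.nat (L.restrictScalars R) (MonoidAlgebra.of (A0 n R) Mn)
    ((algebraMap (A0 n R) B : A0 n R →* B).comp (MonoidAlgebra.of R Mn))
  have h1 : ((L.restrictScalars R : B →ₐ[R] C) : B →* C).comp (MonoidAlgebra.of (A0 n R) Mn) = χ :=
    MonoidHom.ext fun a => MonoidAlgebra.lift_of χ a
  have h2 : ((L.restrictScalars R : B →ₐ[R] C) : B →* C).comp
      ((algebraMap (A0 n R) B : A0 n R →* B).comp (MonoidAlgebra.of R Mn)) = ψ :=
    MonoidHom.ext fun a => by
      show L (algebraMap (A0 n R) B (MonoidAlgebra.of R Mn a)) = ψ a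
      rw [AlgHom.commutes]
      exact MonoidAlgebra.lift_of ψ a
  rw [h1, h2] at h
  rw [← h]
  show L (P.V B _ _) = _
  conv_lhs => rw [← MonoidAlgebra.sum_coeff_single (P.V B _ _)]
  rw [Finsupp.sum_fintype _ _ (fun a => MonoidAlgebra.single_zero a), map_sum]
  refine Finset.sum_congr rfl fun a _ => ?_
  exact (MonoidAlgebra.lift_single χ a _).trans (Algebra.smul_def _ _)

theorem cf_orth [DecidableEq Mn] (P : Pairing n R) (a a' : Mn) :
    cf n R P a * cf n R P a' = if a = a' then cf n R P a else 0 := by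
  classical
  let A := A0 n R
  let D := MonoidAlgebra A (Mn × Mn)
  let ψD : Mn →* D := (algebraMap A D : A →* D).comp (MonoidAlgebra.of R Mn)
  let χ₁ : Mn →* D := (MonoidAlgebra.of A (Mn × Mn)).comp (MonoidHom.inl Mn Mn)
  let χ₂ : Mn →* D := (MonoidAlgebra.of A (Mn × Mn)).comp (MonoidHom.inr Mn Mn)
  have hl : MonoidAlgebra.lift R D Mn ψD = IsScalarTower.toAlgHom R A D :=
    (MonoidAlgebra.lift R D Mn).apply_symm_apply (IsScalarTower.toAlgHom R A D)
  have e : ∀ (x : A) (g : Mn × Mn), algebraMap A D x * MonoidAlgebra.of A (Mn × Mn) g = MonoidAlgebra.single g x :=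
    fun x g => by rw [MonoidAlgebra.of_apply, ← Algebra.smul_def, MonoidAlgebra.smul_single, smul_eq_mul, mul_one]
  have eL : ∀ b, MonoidAlgebra.lift R D Mn ψD (cf n R P b) * (χ₁ * χ₂) b = MonoidAlgebra.single (b, b) (cf n R P b) :=
    fun b => by
      rw [hl, MonoidHom.mul_apply, show χ₁ b * χ₂ b = MonoidAlgebra.of A (Mn × Mn) (b, b) from
        (map_mul (MonoidAlgebra.of A (Mn × Mn)) (b, 1) (1, b)).symm.trans (by rw [Prod.mk_mul_mk, mul_one, one_mul])]
      exact e _ _
  have e1 : ∀ b, MonoidAlgebra.lift R D Mn ψD (cf n R P b) * χ₁ b = MonoidAlgebra.single (b, 1) (cf n R P b) :=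
    fun b => by rw [hl]; exact e _ _
  have e2 : ∀ b, MonoidAlgebra.lift R D Mn ψD (cf n R P b) * χ₂ b = MonoidAlgebra.single (1, b) (cf n R P b) :=
    fun b => by rw [hl]; exact e _ _
  have h := P.mulL χ₁ χ₂ ψD
  rw [formula, formula, formula, Finset.sum_congr rfl (fun b _ => eL b), Finset.sum_congr rfl (fun b _ => e1 b),
    Finset.sum_congr rfl (fun b _ => e2 b), Finset.sum_mul_sum,
    Finset.sum_congr rfl (fun b _ => Finset.sum_congr rfl fun b' _ =>
      (MonoidAlgebra.single_mul_single (R := A) (b, 1) (1, b') (cf n R P b) (cf n R P b')).trans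
        (congrArg (fun g : Mn × Mn => MonoidAlgebra.single g (cf n R P b * cf n R P b'))
          (by rw [Prod.mk_mul_mk, mul_one, one_mul])))] at h
  have hc := congrArg (fun x : D => x.coeff (a, a')) h
  have hc1 : (∑ b : Mn, MonoidAlgebra.single (b, b) (cf n R P b) : D).coeff (a, a') =
      if a = a' then cf n R P a else 0 := by
    rw [MonoidAlgebra.coeff_sum, Finsupp.finsetSum_apply, Finset.sum_eq_single a]
    · rw [MonoidAlgebra.coeff_single, Finsupp.single_apply]
      simp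
    · intro b _ hb
      rw [MonoidAlgebra.coeff_single, Finsupp.single_apply, if_neg (by simp [hb])]
    · simp
  have hc2 : (∑ b : Mn, ∑ b' : Mn, MonoidAlgebra.single (b, b') (cf n R P b * cf n R P b') : D).coeff (a, a') =
      cf n R P a * cf n R P a' := by
    rw [MonoidAlgebra.coeff_sum, Finsupp.finsetSum_apply, Finset.sum_eq_single a]
    · rw [MonoidAlgebra.coeff_sum, Finsupp.finsetSum_apply, Finset.sum_eq_single a']
      · rw [MonoidAlgebra.coeff_single, Finsupp.single_eq_same]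
      · intro b _ hb
        rw [MonoidAlgebra.coeff_single, Finsupp.single_apply, if_neg (by simp [hb])]
      · simp
    · intro b _ hb
      rw [MonoidAlgebra.coeff_sum, Finsupp.finsetSum_apply]
      refine Finset.sum_eq_zero fun b' _ => ?_
      rw [MonoidAlgebra.coeff_single, Finsupp.single_apply, if_neg (by simp [hb])]
    · simp
  rw [hc1, hc2] at hc
  exact hc.symm

theorem cf_sum (P : Pairing n R) : ∑ a, cf n R P a = 1 := by
  have h := P.oneL (C := A0 n R) (MonoidAlgebra.of R Mn)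
  rw [formula] at h
  have hid : MonoidAlgebra.lift R (A0 n R) Mn (MonoidAlgebra.of R Mn) = AlgHom.id R (A0 n R) := by
    refine (MonoidAlgebra.lift R (A0 n R) Mn).symm.injective ?_
    rw [Equiv.symm_apply_apply]
    rfl
  rw [hid] at h
  simpa using h

theorem ev_eq_zero (P : Pairing n R) {K : Type u} [Field K] [IsAlgClosed K] [Algebra R K] (ψ : Mn →* K)
    {a : Mn} (ha : a ≠ 1) : MonoidAlgebra.lift R K Mn ψ (cf n R P a) = 0 := by
  classical
  obtain ⟨m, q, ψ₀, hnm, hco, hprim, hgen⟩ := exists_gen n K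
  let ev : (Mn →* K) → Mn → K := fun ψ a => MonoidAlgebra.lift R K Mn ψ (cf n R P a)
  have hex : ∀ ψ, ∃ b, ∀ a, ev ψ a = if a = b then 1 else 0 := by
    intro ψ
    have ev_sum : ∑ a, ev ψ a = 1 := by
      show ∑ a, MonoidAlgebra.lift R K Mn ψ (cf n R P a) = 1
      rw [← map_sum, cf_sum, map_one]
    have ev_orth : ∀ b a, ev ψ b * ev ψ a = if b = a then ev ψ b else 0 := fun b a => by
      show MonoidAlgebra.lift R K Mn ψ (cf n R P b) * MonoidAlgebra.lift R K Mn ψ (cf n R P a) = _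
      rw [← map_mul, cf_orth P b a]
      split_ifs
      · rfl
      · rw [map_zero]
    obtain ⟨b, -, hb⟩ := Finset.exists_ne_zero_of_sum_ne_zero (ev_sum.trans_ne one_ne_zero)
    refine ⟨b, fun a => ?_⟩
    split_ifs with hab
    · subst hab
      have h := ev_orth a a
      rw [if_pos rfl] at h
      exact mul_left_cancel₀ hb (h.trans (mul_one _).symm)
    · have h := ev_orth b a
      rw [if_neg (Ne.symm hab)] at h
      exact (mul_eq_zero.1 h).resolve_left hb
  choose α hα using hex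
  let D := MonoidAlgebra K Mn
  have hV : ∀ ψ : Mn →* K, P.V D (MonoidAlgebra.of K Mn) ((algebraMap K D : K →* D).comp ψ) =
      MonoidAlgebra.of K Mn (α ψ) := by
    intro ψ
    rw [formula]
    have hl : MonoidAlgebra.lift R D Mn ((algebraMap K D : K →* D).comp ψ) =
        (IsScalarTower.toAlgHom R K D).comp (MonoidAlgebra.lift R K Mn ψ) :=
      (MonoidAlgebra.lift R D Mn).symm.injective (MonoidHom.ext fun g => by simp)
    rw [hl, Finset.sum_eq_single (α ψ)]
    · rw [AlgHom.comp_apply, show MonoidAlgebra.lift R K Mn ψ (cf n R P (α ψ)) = 1 from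
        (hα ψ (α ψ)).trans (if_pos rfl), map_one, one_mul]
    · intro b _ hb
      rw [AlgHom.comp_apply, show MonoidAlgebra.lift R K Mn ψ (cf n R P b) = 0 from (hα ψ b).trans (if_neg hb),
        map_zero, zero_mul]
    · simp
  have hmul : ∀ ψ ψ', α (ψ * ψ') = α ψ * α ψ' := by
    intro ψ ψ'
    have h := P.mulR (MonoidAlgebra.of K Mn) ((algebraMap K D : K →* D).comp ψ) ((algebraMap K D : K →* D).comp ψ')
    rw [← MonoidHom.comp_mul, hV, hV, hV, ← map_mul] at h
    exact MonoidAlgebra.single_left_injective one_ne_zero h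
  let αh : (Mn →* K) →* Mn := MonoidHom.mk' α hmul
  have halt : ψ₀ (α ψ₀) = 1 := by
    have h := P.alt ψ₀
    rw [formula, Finset.sum_eq_single (α ψ₀)] at h
    · rwa [show MonoidAlgebra.lift R K Mn ψ₀ (cf n R P (α ψ₀)) = 1 from (hα ψ₀ (α ψ₀)).trans (if_pos rfl),
        one_mul] at h
    · intro b _ hb
      rw [show MonoidAlgebra.lift R K Mn ψ₀ (cf n R P b) = 0 from (hα ψ₀ b).trans (if_neg hb), zero_mul]
    · simp
  have h0 : α ψ₀ = 1 := by
    have hm0 : (αh ψ₀) ^ m = 1 := by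
      rw [← map_pow, show ψ₀ ^ m = 1 from hom_ext_mn n (by
        rw [MonoidHom.pow_apply, hprim.pow_eq_one, MonoidHom.one_apply]), map_one]
    rw [mn_eq_pow n (α ψ₀), map_pow] at halt
    have hd1 : m ∣ (Multiplicative.toAdd (α ψ₀)).val := hprim.dvd_of_pow_eq_one _ halt
    have hd2 : q ∣ (Multiplicative.toAdd (α ψ₀)).val := by
      have h2 : (α ψ₀) ^ m = 1 := hm0
      rw [mn_eq_pow n (α ψ₀), ← pow_mul, ← ofAdd_nsmul, nsmul_one, ← ofAdd_zero,
        Multiplicative.ofAdd.injective.eq_iff, ZMod.natCast_eq_zero_iff] at h2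
      have hq : q * m ∣ (Multiplicative.toAdd (α ψ₀)).val * m := by rwa [← hnm]
      exact Nat.dvd_of_mul_dvd_mul_right
        (Nat.pos_of_ne_zero fun h => NeZero.ne n (by rw [hnm, h, mul_zero])) hq
    have hd : n ∣ (Multiplicative.toAdd (α ψ₀)).val := by
      have := hco.mul_dvd_of_dvd_of_dvd hd2 hd1
      rwa [← hnm] at this
    have hz := Nat.eq_zero_of_dvd_of_lt hd (ZMod.val_lt (Multiplicative.toAdd (α ψ₀)))
    rw [mn_eq_pow n (α ψ₀), hz, pow_zero]
  obtain ⟨i, hi⟩ := hgen ψ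
  have h1 : α ψ = 1 := by
    rw [hi]
    show αh (ψ₀ ^ i) = 1
    rw [map_pow, show αh ψ₀ = 1 from h0, one_pow]
  have := hα ψ a
  rw [h1, if_neg ha] at this
  exact this

theorem cf_eq_zero (P : Pairing n R) {a : Mn} (ha : a ≠ 1) : cf n R P a = 0 := by
  classical
  have hidem : IsIdempotentElem (cf n R P a) := by
    show cf n R P a * cf n R P a = cf n R P a
    rw [cf_orth P a a, if_pos rfl]
  suffices hnil : IsNilpotent (cf n R P a) by exact hidem.eq_zero_of_isNilpotent hnil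
  refine nilpotent_iff_mem_prime.2 fun I hI => ?_
  let K := AlgebraicClosure (FractionRing (A0 n R ⧸ I))
  let π : A0 n R →+* K := (algebraMap (FractionRing (A0 n R ⧸ I)) K).comp
    ((algebraMap (A0 n R ⧸ I) (FractionRing (A0 n R ⧸ I))).comp (Ideal.Quotient.mk I))
  letI : Algebra R K := (π.comp (algebraMap R (A0 n R))).toAlgebra
  let πA : A0 n R →ₐ[R] K := ⟨π, fun r => rfl⟩
  have h := ev_eq_zero P ((πA : A0 n R →* K).comp (MonoidAlgebra.of R Mn)) ha
  rw [show MonoidAlgebra.lift R K Mn ((πA : A0 n R →* K).comp (MonoidAlgebra.of R Mn)) = πA from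
    (MonoidAlgebra.lift R K Mn).apply_symm_apply πA] at h
  rw [← Ideal.Quotient.eq_zero_iff_mem]
  exact (map_eq_zero_iff _ (IsFractionRing.injective (A0 n R ⧸ I) (FractionRing (A0 n R ⧸ I)))).1
    ((map_eq_zero_iff _ (algebraMap (FractionRing (A0 n R ⧸ I)) K).injective).1 h)

/-- An alternating pairing on roots of unity is trivial. -/
theorem Pairing.trivial (P : Pairing n R) {C : Type u} [CommRing C] [Algebra R C] (χ ψ : Mn →* C) :
    P.V C χ ψ = 1 := by
  classical
  have hf1 : cf n R P 1 = 1 := by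
    rw [← cf_sum P, Finset.sum_eq_single 1 (fun b _ hb => cf_eq_zero P hb) (by simp)]
  rw [formula, Finset.sum_eq_single 1 (fun b _ hb => by rw [cf_eq_zero P hb, map_zero, zero_mul]) (by simp), hf1,
    map_one, map_one, one_mul]

end Groth.Agent.MuPair
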