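import Groth.Agent.MuPairLib.Basic
import Groth.Agent.FreeActLib.Algebra
import Groth.Agent.DiagRepLib.Scheme
import Groth.Agent.MonoQuotLib.Cov
import Groth.Agent.MonoQuotLib.Kernel

/-!
Descent of the commutator pairing of a central extension of roots of unity; points of diagonalisable groups.
-/

set_option autoImplicit false
set_option backward.isDefEq.respectTransparency false
set_option maxHeartbeats 1000000

universe u

noncomputable section

open CategoryTheory CategoryTheory.Limits MonoidalCategory CartesianMonoidalCategory AlgebraicGeometry CoactBr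
open scoped MonObj TensorProduct
open Groth.Agent.FreeAct (DA chr)

namespace Groth.Agent.MuPair

attribute [local instance] CoactBr.braidedAlgSpecOf

variable {R : Type u} [CommRing R] {M : Type} [AddCommGroup M]

/-- The Hopf algebra of the diagonalisable group. -/
local instance hopfDA (R : Type u) [CommRing R] (M : Type) [AddCommGroup M] :
    HopfAlgebra ↑(CommRingCat.of R) ↑(CommRingCat.of (MonoidAlgebra R (Multiplicative M))) :=
  inferInstanceAs (HopfAlgebra R (MonoidAlgebra R (Multiplicative M)))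

/-- The point of a diagonalisable group given by a character. -/
def dpt {C : Type u} [CommRing C] [Algebra R C] (χ : Multiplicative M →* C) : sp R C ⟶ Red.diag R M :=
  pt (chr (R := R) C χ)

theorem dpt_mul {C : Type u} [CommRing C] [Algebra R C] (χ χ' : Multiplicative M →* C) :
    dpt (R := R) (χ * χ') = dpt χ * dpt χ' := by
  refine Eq.trans ?_ (pt_mul_pt (chr (R := R) C χ) (chr (R := R) C χ')).symm
  refine congrArg pt ((MonoidAlgebra.lift R C (Multiplicative M)).symm.injective (MonoidHom.ext fun m => ?_))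
  simp [chr, Algebra.smul_def]

theorem dpt_one {C : Type u} [CommRing C] [Algebra R C] : dpt (R := R) (1 : Multiplicative M →* C) = 1 := by
  have h := dpt_mul (R := R) (1 : Multiplicative M →* C) 1
  rw [_root_.one_mul] at h
  exact mul_eq_left.1 h.symm

theorem dpt_natural {C D : Type u} [CommRing C] [Algebra R C] [CommRing D] [Algebra R D] (L : C →ₐ[R] D)
    (χ : Multiplicative M →* C) : pt L ≫ dpt (R := R) χ = dpt ((L : C →* D).comp χ) := by
  rw [dpt, dpt, ← pt_comp]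
  exact congrArg pt ((MonoidAlgebra.lift R D (Multiplicative M)).symm.injective (MonoidHom.ext fun m => by simp [chr]))

theorem dpt_bijective {C : Type u} [CommRing C] [Algebra R C] :
    Function.Bijective (dpt (R := R) (M := M) (C := C)) := by
  refine ⟨fun χ χ' h => (MonoidAlgebra.lift R C (Multiplicative M)).injective (pt_injective h), fun f => ?_⟩
  obtain ⟨φ, rfl⟩ := DiagRep.exists_pt f
  exact ⟨(MonoidAlgebra.lift R C (Multiplicative M)).symm φ,
    congrArg pt ((MonoidAlgebra.lift R C (Multiplicative M)).apply_symm_apply φ)⟩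

/-- The value of a point of the multiplicative group. -/
def val {C : Type u} [CommRing C] [Algebra R C] (f : sp R C ⟶ Red.diag R ℤ) : C :=
  (Function.surjInv dpt_bijective.2 f) (Multiplicative.ofAdd 1)

theorem val_dpt {C : Type u} [CommRing C] [Algebra R C] (ν : Multiplicative ℤ →* C) :
    val (dpt (R := R) ν) = ν (Multiplicative.ofAdd 1) := by
  rw [val, Function.leftInverse_surjInv dpt_bijective ν]

theorem val_mul {C : Type u} [CommRing C] [Algebra R C] (f g : sp R C ⟶ Red.diag R ℤ) :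
    val (f * g) = val f * val g := by
  obtain ⟨ν, rfl⟩ := dpt_bijective.2 f
  obtain ⟨ν', rfl⟩ := dpt_bijective.2 g
  rw [← dpt_mul, val_dpt, val_dpt, val_dpt, MonoidHom.mul_apply]

theorem val_one {C : Type u} [CommRing C] [Algebra R C] : val (1 : sp R C ⟶ Red.diag R ℤ) = 1 := by
  rw [← dpt_one, val_dpt, MonoidHom.one_apply]

theorem val_natural {C D : Type u} [CommRing C] [Algebra R C] [CommRing D] [Algebra R D] (L : C →ₐ[R] D)
    (f : sp R C ⟶ Red.diag R ℤ) : val (pt L ≫ f) = L (val f) := by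
  obtain ⟨ν, rfl⟩ := dpt_bijective.2 f
  rw [dpt_natural, val_dpt, val_dpt]
  rfl

theorem eq_one_of_val {C : Type u} [CommRing C] [Algebra R C] {f : sp R C ⟶ Red.diag R ℤ} (h : val f = 1) : f = 1 := by
  obtain ⟨ν, rfl⟩ := dpt_bijective.2 f
  rw [val_dpt] at h
  rw [← dpt_one]
  exact congrArg dpt (MonoidHom.ext_mint (by rw [h, MonoidHom.one_apply]))

variable {n : ℕ} [NeZero n]

/-- A bilinear alternating morphism on the roots of unity is trivial. -/
theorem pairing_morphism_trivial (b : Red.diag R (ZMod n) ⊗ Red.diag R (ZMod n) ⟶ Red.diag R ℤ)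
    (hL : ∀ (T : Over (Spec (CommRingCat.of R))) (g g' h : T ⟶ Red.diag R (ZMod n)),
      lift (g * g') h ≫ b = (lift g h ≫ b) * (lift g' h ≫ b))
    (hR : ∀ (T : Over (Spec (CommRingCat.of R))) (g h h' : T ⟶ Red.diag R (ZMod n)),
      lift g (h * h') ≫ b = (lift g h ≫ b) * (lift g h' ≫ b))
    (hA : ∀ (T : Over (Spec (CommRingCat.of R))) (g : T ⟶ Red.diag R (ZMod n)), lift g g ≫ b = 1) : b = 1 := by
  let P : Pairing n R :=
    { V := fun C _ _ χ ψ => val (lift (dpt (R := R) χ) (dpt ψ) ≫ b)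
      nat := fun L χ ψ => by
        rw [← val_natural, ← Category.assoc, comp_lift, dpt_natural, dpt_natural]
      mulL := fun χ χ' ψ => by rw [dpt_mul, hL, val_mul]
      mulR := fun χ ψ ψ' => by rw [dpt_mul, hR, val_mul]
      oneL := fun {C} _ _ ψ => by
        rw [dpt_one]
        have h := hL (sp R C) 1 1 (dpt ψ)
        rw [_root_.one_mul] at h
        rw [mul_eq_left.1 h.symm, val_one]
      alt := fun χ => by rw [hA, val_one] }
  let T := Red.diag R (ZMod n) ⊗ Red.diag R (ZMod n)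
  haveI : IsAffine (Red.diag R (ZMod n)).left :=
    inferInstanceAs (IsAffine (Spec (CommRingCat.of (MonoidAlgebra R (Multiplicative (ZMod n))))))
  haveI : IsAffineHom (Red.diag R (ZMod n)).hom :=
    inferInstanceAs (IsAffineHom (Spec.map (CommRingCat.ofHom (algebraMap R (MonoidAlgebra R (Multiplicative (ZMod n)))))))
  haveI : IsAffine T.left := inferInstanceAs (IsAffine (pullback (Red.diag R (ZMod n)).hom (Red.diag R (ZMod n)).hom))
  letI alg : Algebra R Γ(T.left, ⊤) := ((Scheme.ΓSpecIso (CommRingCat.of R)).inv ≫ T.hom.appTop).hom.toAlgebra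
  let e : T ≅ sp R Γ(T.left, ⊤) := Over.isoMk T.left.isoSpec (by
    show T.left.toSpecΓ ≫ Spec.map (CommRingCat.ofHom (algebraMap R Γ(T.left, ⊤))) = T.hom
    rw [show CommRingCat.ofHom (algebraMap R Γ(T.left, ⊤)) = (Scheme.ΓSpecIso (CommRingCat.of R)).inv ≫ T.hom.appTop
      from rfl, Spec.map_comp, ← Scheme.toSpecΓ_naturality_assoc]
    exact (congrArg (T.hom ≫ ·) (toSpecΓ_SpecMap_ΓSpecIso_inv _)).trans (Category.comp_id _))
  obtain ⟨χ, hχ⟩ := dpt_bijective.2 (e.inv ≫ fst _ _)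
  obtain ⟨ψ, hψ⟩ := dpt_bijective.2 (e.inv ≫ snd _ _)
  have h1 : val (lift (dpt (R := R) χ) (dpt ψ) ≫ b) = 1 := P.trivial χ ψ
  have h2 : lift (dpt (R := R) χ) (dpt ψ) = e.inv := by rw [hχ, hψ]; ext <;> simp
  rw [h2] at h1
  rw [← cancel_epi e.inv, eq_one_of_val h1, MonObj.comp_one]

attribute [-instance] CategoryTheory.Hom.commGroup

/-- The commutator pairing of a central extension. -/
theorem exists_pairing {S : Scheme.{u}} {E A Q : Over S} [GrpObj E] [GrpObj A] [GrpObj Q] (i : A ⟶ E) [IsMonHom i]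
    (q : E ⟶ Q) [IsMonHom q] (hker : AlgGrp.IsKernel i q) (hq : MonoQuot.IsCov q.left)
    (hcent : ∀ (T : Over S) (g : T ⟶ E) (t : T ⟶ A), g * (t ≫ i) = (t ≫ i) * g)
    (hQ : ∀ (T : Over S) (a c : T ⟶ Q), a * c = c * a) :
    ∃ b : Q ⊗ Q ⟶ A,
      (∀ (T : Over S) (g g' h : T ⟶ Q), lift (g * g') h ≫ b = (lift g h ≫ b) * (lift g' h ≫ b)) ∧
      (∀ (T : Over S) (g h h' : T ⟶ Q), lift g (h * h') ≫ b = (lift g h ≫ b) * (lift g h' ≫ b)) ∧
      (∀ (T : Over S) (g : T ⟶ Q), lift g g ≫ b = 1) ∧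
      (b = 1 → ∀ (T : Over S) (g h : T ⟶ E), g * h = h * g) := by
  haveI : Mono i := ⟨fun {Z} a c h => hker.hom_ext h (toUnit_unique _ _)⟩
  let x : E ⊗ E ⟶ E := fst E E
  let y : E ⊗ E ⟶ E := snd E E
  have hw : (x * y * x⁻¹ * y⁻¹) ≫ q = toUnit _ ≫ η[Q] := by
    rw [← Hom.one_def]
    simp only [MonObj.mul_comp, GrpObj.inv_comp]
    rw [hQ _ (x ≫ q) (y ≫ q), mul_inv_cancel_right, mul_inv_cancel]
  let c : E ⊗ E ⟶ A := hker.lift (x * y * x⁻¹ * y⁻¹) (toUnit _) hw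
  have hc : ∀ (T : Over S) (g h : T ⟶ E), lift g h ≫ c ≫ i = g * h * g⁻¹ * h⁻¹ := by
    intro T g h
    rw [show c ≫ i = x * y * x⁻¹ * y⁻¹ from hker.lift_fst _ _ _]
    simp only [x, y, MonObj.comp_mul, GrpObj.comp_inv, lift_fst, lift_snd]
  have hcc : ∀ (T : Over S) (t : T ⟶ A) (g : T ⟶ E), Commute (t ≫ i) g := fun T t g => (hcent T g t).symm
  obtain ⟨b, hb⟩ := hq.exists_desc_tensor hq c (by
    intro T a a' ha
    have e1 := congrArg (· ≫ fst Q Q) ha
    have e2 := congrArg (· ≫ snd Q Q) ha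
    simp only [Category.assoc, tensorHom_fst, tensorHom_snd] at e1 e2
    simp only [← Category.assoc] at e1 e2
    obtain ⟨s, hs⟩ := (MonoQuot.kernel_iff q i hker _ _ _).1 e1
    obtain ⟨t, ht⟩ := (MonoQuot.kernel_iff q i hker _ _ _).1 e2
    have d1 : a = lift (a ≫ fst E E) (a ≫ snd E E) := by ext <;> simp
    have d2 : a' = lift (a' ≫ fst E E) (a' ≫ snd E E) := by ext <;> simp
    rw [← cancel_mono i, Category.assoc, Category.assoc, d1, d2, hc, hc, ← hs, ← ht]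
    generalize a ≫ fst E E = g, a ≫ snd E E = h
    have cs := hcc T s
    have ct := hcc T t
    rw [mul_inv_rev, mul_inv_rev]
    calc g * h * g⁻¹ * h⁻¹ = g * h * (((s ≫ i) * (s ≫ i)⁻¹) * g⁻¹) * h⁻¹ := by group
      _ = g * (s ≫ i) * h * (s ≫ i)⁻¹ * g⁻¹ * h⁻¹ := by
          rw [_root_.mul_assoc g (s ≫ i) h, (cs h).eq]; group
      _ = g * (s ≫ i) * h * ((t ≫ i) * ((s ≫ i)⁻¹ * g⁻¹)) * (t ≫ i)⁻¹ * h⁻¹ := by
          rw [(ct ((s ≫ i)⁻¹ * g⁻¹)).eq]; group
      _ = _ := by group)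
  have hb' : ∀ (T : Over S) (g h : T ⟶ E), lift (g ≫ q) (h ≫ q) ≫ b ≫ i = g * h * g⁻¹ * h⁻¹ := by
    intro T g h
    rw [← hc, ← hb, Category.assoc, lift_map_assoc]
  refine ⟨b, fun T g g' h => ?_, fun T g h h' => ?_, fun T g => ?_, fun hb1 T g h => ?_⟩
  · obtain ⟨T₁, k₁, x₁, hk₁, e₁⟩ := hq.exists_lift g
    obtain ⟨T₂, k₂, x₂, hk₂, e₂⟩ := hq.exists_lift (k₁ ≫ g')
    obtain ⟨T₃, k₃, x₃, hk₃, e₃⟩ := hq.exists_lift (k₂ ≫ k₁ ≫ h)
    haveI := hk₁.epi_over; haveI := hk₂.epi_over; haveI := hk₃.epi_over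
    rw [← cancel_epi k₁, ← cancel_epi k₂, ← cancel_epi k₃, ← cancel_mono i]
    simp only [MonObj.comp_mul, MonObj.mul_comp, ← Category.assoc, comp_lift]
    have a₁ : k₃ ≫ k₂ ≫ k₁ ≫ g = (k₃ ≫ k₂ ≫ x₁) ≫ q := by simp only [Category.assoc, e₁]
    have a₂ : k₃ ≫ k₂ ≫ k₁ ≫ g' = (k₃ ≫ x₂) ≫ q := by simp only [Category.assoc, e₂]
    simp only [Category.assoc]
    rw [a₁, a₂, ← e₃, ← MonObj.mul_comp, hb', hb', hb']
    generalize k₃ ≫ k₂ ≫ x₁ = u, k₃ ≫ x₂ = v
    have hv : Commute (v * x₃ * v⁻¹ * x₃⁻¹) (x₃ * u⁻¹ * x₃⁻¹) := by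
      rw [← hb', ← Category.assoc]; exact hcc _ _ _
    have hu : Commute (v * x₃ * v⁻¹ * x₃⁻¹) u := by rw [← hb', ← Category.assoc]; exact hcc _ _ _
    calc u * v * x₃ * (u * v)⁻¹ * x₃⁻¹ = u * ((v * x₃ * v⁻¹ * x₃⁻¹) * (x₃ * u⁻¹ * x₃⁻¹)) := by group
      _ = u * x₃ * u⁻¹ * x₃⁻¹ * (v * x₃ * v⁻¹ * x₃⁻¹) := by rw [hv.eq]; group
  · obtain ⟨T₁, k₁, x₁, hk₁, e₁⟩ := hq.exists_lift g
    obtain ⟨T₂, k₂, x₂, hk₂, e₂⟩ := hq.exists_lift (k₁ ≫ h)
    obtain ⟨T₃, k₃, x₃, hk₃, e₃⟩ := hq.exists_lift (k₂ ≫ k₁ ≫ h')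
    haveI := hk₁.epi_over; haveI := hk₂.epi_over; haveI := hk₃.epi_over
    rw [← cancel_epi k₁, ← cancel_epi k₂, ← cancel_epi k₃, ← cancel_mono i]
    simp only [MonObj.comp_mul, MonObj.mul_comp, ← Category.assoc, comp_lift]
    have a₁ : k₃ ≫ k₂ ≫ k₁ ≫ g = (k₃ ≫ k₂ ≫ x₁) ≫ q := by simp only [Category.assoc, e₁]
    have a₂ : k₃ ≫ k₂ ≫ k₁ ≫ h = (k₃ ≫ x₂) ≫ q := by simp only [Category.assoc, e₂]
    simp only [Category.assoc]
    rw [a₁, a₂, ← e₃, ← MonObj.mul_comp, hb', hb', hb']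
    generalize k₃ ≫ k₂ ≫ x₁ = u, k₃ ≫ x₂ = v
    have hv : Commute (u * x₃ * u⁻¹ * x₃⁻¹) v⁻¹ := by rw [← hb', ← Category.assoc]; exact hcc _ _ _
    calc u * (v * x₃) * u⁻¹ * (v * x₃)⁻¹ = u * v * u⁻¹ * ((u * x₃ * u⁻¹ * x₃⁻¹) * v⁻¹) := by group
      _ = u * v * u⁻¹ * v⁻¹ * (u * x₃ * u⁻¹ * x₃⁻¹) := by rw [hv.eq]; group
  · obtain ⟨T₁, k₁, x₁, hk₁, e₁⟩ := hq.exists_lift g
    haveI := hk₁.epi_over
    rw [← cancel_epi k₁, ← cancel_mono i, MonObj.comp_one, MonObj.one_comp, Category.assoc, Category.assoc,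
      ← Category.assoc, comp_lift, ← e₁, hb']
    group
  · have := hb' T g h
    rw [hb1, MonObj.one_comp, MonObj.comp_one, eq_comm, mul_inv_eq_one, mul_inv_eq_iff_eq_mul] at this
    exact this

theorem diag_comm (M : Type) [AddCommGroup M] (T : Over (Spec (CommRingCat.of R))) (a c : T ⟶ Red.diag R M) :
    a * c = c * a := by
  haveI : IsCommMonObj (Red.diag R M) := inferInstance
  letI := CategoryTheory.Hom.commGroup (C := Over (Spec (CommRingCat.of R))) (X := T) (G := Red.diag R M)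
  exact _root_.mul_comm a c

end Groth.Agent.MuPair
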